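import Cfsg.Agent.H6.HN.H.Main

set_option autoImplicit false
set_option maxRecDepth 100000
set_option Elab.async false

namespace Cfsg.H6.HN.D2

def c0 : Clm := ⟨0, 0, false, [], [1], 0, [], []⟩
def c1 : Clm := ⟨0, 0, false, [], [3], 0, [], []⟩
def c2 : Clm := ⟨0, 0, false, [], [5], 0, [], []⟩
def c3 : Clm := ⟨0, 1, true, [], [], 1, [], []⟩
def c4 : Clm := ⟨1, 0, true, [1,1], [1,1], 5, [([], 3, [])], []⟩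
def c5 : Clm := ⟨0, 1, true, [], [], 5, [([], 4, [])], []⟩
def c6 : Clm := ⟨1, 1, false, [], [4], 3, [([], 3, []), ([5,3,5,2,5,3,4,2,4,3,4], 3, [4])], []⟩
def c7 : Clm := ⟨1, 1, false, [], [3,7,3,6,3,7,4,7,7], 3, [([], 3, []), ([5,3,3,0,3,3,5,3,3,4,1,3,3,4], 3, [3,7,3,6,3,7,4,7,7])], []⟩
def c8 : Clm := ⟨1, 1, true, [1], [1,1], 9, [([], 5, []), ([0], 4, [])], []⟩
def c9 : Clm := ⟨1, 1, true, [], [2], 5, [([], 8, [])], []⟩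
def c10 : Clm := ⟨1, 1, true, [2], [1], 7, [([], 5, []), ([0,0], 4, [])], []⟩
def c11 : Clm := ⟨1, 1, true, [2], [1], 5, [([], 10, [])], []⟩
def c12 : Clm := ⟨1, 1, true, [5], [1,1,5], 13, [([], 5, []), ([4,0,0], 4, [])], []⟩
def c13 : Clm := ⟨1, 1, true, [5], [1,1,5], 5, [([], 12, [])], []⟩
def c14 : Clm := ⟨1, 2, true, [5,2], [], 1, [], []⟩
def c15 : Clm := ⟨2, 1, true, [1,1], [2,5], 5, [([], 14, [])], []⟩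
def c16 : Clm := ⟨1, 2, true, [1,5], [], 5, [([], 15, [])], []⟩
def c17 : Clm := ⟨2, 2, false, [], [3,6,6,6,4,7,7,3,3,7,7], 3, [([], 14, []), ([12,12,15,15], 14, [3,6,6,6,4,7,7,3,3,7,7])], []⟩
def c18 : Clm := ⟨2, 2, false, [], [4,7,7,4,6,3,6,6,6,4,7], 3, [([], 14, []), ([13,13,15,15,13,13], 14, [4,7,7,4,6,3,6,6,6,4,7])], []⟩
def c19 : Clm := ⟨2, 2, false, [], [3,7,3,6,6,4,4,6,4,7,4], 3, [([], 14, []), ([13,15,15,13,15,13], 14, [3,7,3,6,6,4,4,6,4,7,4])], []⟩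
def c20 : Clm := ⟨2, 1, true, [], [2,5], 11, [([], 16, []), ([], 13, [])], []⟩
def c21 : Clm := ⟨1, 2, true, [1,5], [1,1], 5, [([], 20, [])], []⟩
def c22 : Clm := ⟨2, 2, false, [1,1], [1,1], 3, [([], 21, []), ([], 14, [])], []⟩
def c23 : Clm := ⟨2, 1, true, [5], [2,5], 13, [([], 16, []), ([], 11, [])], []⟩
def c24 : Clm := ⟨1, 2, true, [1,5], [1,1,5], 5, [([], 23, [])], []⟩
def c25 : Clm := ⟨2, 2, false, [1,1,5], [1,1,5], 3, [([], 24, []), ([], 14, [])], []⟩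
def c26 : Clm := ⟨1, 3, true, [5,1], [], 1, [], []⟩
def c27 : Clm := ⟨3, 1, true, [1,1], [1,5], 5, [([], 26, [])], []⟩
def c28 : Clm := ⟨1, 3, true, [2,5], [], 5, [([], 27, [])], []⟩
def c29 : Clm := ⟨3, 3, false, [], [3,6,6,6,4,7,7,3,3,7,7], 3, [([], 26, []), ([12,12,15,15], 26, [3,6,6,6,4,7,7,3,3,7,7])], []⟩
def c30 : Clm := ⟨3, 3, false, [], [6,6,3,3,6,3,3,6,4,7,7,3], 3, [([], 26, []), ([15,13,13,15], 26, [6,6,3,3,6,3,3,6,4,7,7,3])], []⟩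
def c31 : Clm := ⟨3, 3, false, [], [3,7,3,6,6,4,4,6,4,7,4], 3, [([], 26, []), ([13,15,15,13,15,13], 26, [3,7,3,6,6,4,4,6,4,7,4])], []⟩
def c32 : Clm := ⟨3, 1, true, [1], [5], 9, [([], 28, []), ([], 13, [])], []⟩
def c33 : Clm := ⟨1, 3, true, [1,1,5], [2], 5, [([], 32, [])], []⟩
def c34 : Clm := ⟨3, 1, true, [1], [5], 5, [([], 33, [])], []⟩
def c35 : Clm := ⟨3, 3, true, [], [1,1], 11, [([], 28, []), ([], 34, [])], []⟩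
def c36 : Clm := ⟨3, 2, true, [2], [1], 7, [([], 28, []), ([], 15, [])], []⟩
def c37 : Clm := ⟨2, 3, true, [2], [1], 5, [([], 36, [])], []⟩
def c38 : Clm := ⟨3, 2, true, [2], [1], 5, [([], 37, [])], []⟩
def c39 : Clm := ⟨3, 1, true, [5], [5], 13, [([], 28, []), ([], 9, [])], []⟩
def c40 : Clm := ⟨1, 3, true, [1,1,5], [1,1,5], 5, [([], 39, [])], []⟩
def c41 : Clm := ⟨3, 3, false, [1,1,5], [1,5], 3, [([], 40, []), ([], 33, [])], []⟩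
def c42 : Clm := ⟨1, 4, true, [5,4,5], [], 1, [], []⟩
def c43 : Clm := ⟨4, 1, true, [1,1], [1,1,5,4,5], 5, [([], 42, [])], []⟩
def c44 : Clm := ⟨1, 4, true, [5,4,5], [], 5, [([], 43, [])], []⟩
def c45 : Clm := ⟨4, 4, false, [], [3,7,3,3,6,6,4,4,7,7,4,4], 3, [([], 42, []), ([14,14,13,13,15,12,14,14], 42, [3,7,3,3,6,6,4,4,7,7,4,4])], []⟩
def c46 : Clm := ⟨4, 4, true, [2], [4,4,6,3,3,6,4,4,6,3,6,6,3,1], 7, [([], 44, []), ([15,15,15,13,14], 43, [4,4,6,3,3,6,4,4,6,3,6,6,3])], []⟩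
def c47 : Clm := ⟨4, 3, true, [5], [7,1,5], 13, [([], 44, []), ([], 34, [4])], []⟩
def c48 : Clm := ⟨3, 4, true, [7,2,5], [1,1,5], 5, [([], 47, [])], []⟩
def c49 : Clm := ⟨4, 3, true, [3,5], [7,3,6,3,7,4,6,3,6,4,7,3,6,1,1,5], 13, [([], 44, [3]), ([14,12,12,12], 27, [7,3,6,3,7,4,6,3,6,4,7,3,6])], []⟩
def c50 : Clm := ⟨3, 4, true, [7,3,6,3,7,4,6,3,6,4,7,3,6,5], [3,1,1,5], 5, [([], 49, [])], []⟩
def c51 : Clm := ⟨4, 1, true, [7,5], [3,3,3,6,6,3,6,4,7,4,6,4,1,1,5,4,5,7], 13, [([], 44, [7]), ([15,12,12,12], 13, [3,3,6,3,7,4,6,3,3,3,7,3,3,7])], []⟩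
def c52 : Clm := ⟨1, 4, true, [3,3,3,6,6,3,6,4,7,4,6,4,5,4,5,7], [7,1,1,5], 5, [([], 51, [])], []⟩
def c53 : Clm := ⟨4, 4, false, [7,1,1,5], [7,1,1,5,6], 3, [([], 52, []), ([12,12,12,14], 42, [7])], []⟩
def c54 : Clm := ⟨3, 4, false, [7,3,6,3,7,4,6,3,6,4,7,3,6,1,1,5], [4,4,6,3,7,7,4,6,3,3,6,3,2,5,3,3,3,6,3], 3, [([], 49, []), ([106,91,106,90,106], 46, [3,7,3,6,3,3,7,4,7,7,4])], []⟩
def c55 : Clm := ⟨3, 1, true, [6,3,3,7,3,3,7,7,4,7,3,3,1,5,4,5,7], [3,3,3,6,6,3,6,4,7,4,6,4,1,1,5,4,5,7], 4, [([108], 51, [])], []⟩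
def c56 : Clm := ⟨1, 3, true, [3,3,3,6,6,3,6,4,7,4,6,4,5,4,5,7], [6,3,3,7,3,3,7,7,4,7,3,3,2,5,4,5,7], 5, [([], 55, [])], []⟩
def c57 : Clm := ⟨2, 1, true, [6,6,3,7,4,7,7,3,6,6,1,5], [3,7,3,3,6,4,4,6,1,1,5,4,5,3,5], 13, [([], 38, [3,3,6,4,7,4,4,6,3,3]), ([82,59], 56, [4,6,6,3,6,4,7,3,6,3])], []⟩
def c58 : Clm := ⟨1, 2, true, [3,7,3,3,6,4,4,6,5,4,5,3,5], [6,6,3,7,4,7,7,3,6,6,2,5], 5, [([], 57, [])], []⟩
def c59 : Clm := ⟨2, 2, false, [6,6,3,7,4,7,7,3,6,6,2,5], [4,4,7,7,3,6,6,3,3,6,4,4,2,5,3,3,3,6,3], 3, [([], 58, []), ([14,12,12,12], 14, [3,7,4,6,3,3,7,4,6,3,3,7])], []⟩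
def c60 : Clm := ⟨1, 5, true, [5,4,5,2], [], 1, [], []⟩
def c61 : Clm := ⟨5, 1, true, [1,1], [1,5,7,5], 5, [([], 60, [])], []⟩
def c62 : Clm := ⟨1, 5, true, [2,5,7,5], [], 5, [([], 61, [])], []⟩
def c63 : Clm := ⟨5, 5, false, [], [3,3,7,3,3,3,6,3,7,4], 3, [([], 60, []), ([15,12,14,12,15,13,15,15], 60, [3,3,7,3,3,3,6,3,7,4])], []⟩
def c64 : Clm := ⟨5, 5, false, [], [4,7,4,6,3,3,3,7,3,6,3], 3, [([], 60, []), ([13,13,14,13,14,12], 60, [4,7,4,6,3,3,3,7,3,6,3])], []⟩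
def c65 : Clm := ⟨5, 3, true, [1], [6,6,3,6,6,3,7,7,4,6,6,6,1,5,4], 9, [([], 62, []), ([15,15,15,13,14], 43, [4,4,6,3,3,6,4,4,6,3,6,6,3])], [109]⟩
def c66 : Clm := ⟨3, 5, true, [6,6,3,6,6,3,7,7,4,6,6,6,2,5,4], [2], 5, [([], 65, [])], []⟩
def c67 : Clm := ⟨5, 3, true, [1], [6,6,3,6,6,3,7,7,4,6,6,6,1,5,4], 5, [([], 66, [])], []⟩
def c68 : Clm := ⟨5, 3, true, [], [3,6,3,6,4,7,3,6,4,2,5,3,5,4,5], 11, [([], 62, []), ([], 43, [])], [109]⟩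
def c69 : Clm := ⟨3, 5, true, [3,6,3,6,4,7,3,6,4,1,5,3,5,4,5], [1,1], 5, [([], 68, [])], []⟩
def c70 : Clm := ⟨5, 3, true, [], [3,6,3,6,4,7,3,6,4,2,5,3,5,4,5], 5, [([], 69, [])], []⟩
def c71 : Clm := ⟨5, 5, true, [2], [3,6,3,6,6,3,6,4,7,7,4,6,6,1], 7, [([], 62, []), ([15,15,15,13,14], 61, [3,6,3,6,6,3,6,4,7,7,4,6,6])], []⟩
def c72 : Clm := ⟨5, 5, true, [3,6,3,6,6,3,6,4,7,7,4,6,6,2], [1], 5, [([], 71, [])], []⟩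
def c73 : Clm := ⟨5, 2, true, [5], [7,1,1,5], 13, [([], 62, []), ([], 15, [7])], []⟩
def c74 : Clm := ⟨2, 5, true, [7,5], [1,1,5], 5, [([], 73, [])], []⟩
def c75 : Clm := ⟨5, 2, true, [5], [7,1,1,5], 5, [([], 74, [])], []⟩
def c76 : Clm := ⟨5, 5, false, [1,1,5], [6,3,3,6,3,7,3,6,3,7,4,5,7,5], 3, [([], 74, []), ([38,119,38,119,44,35,39], 74, [3,6,6,4,4,6,4,4,7,3,6,6])], []⟩
def c77 : Clm := ⟨5, 3, true, [4,5], [6,4,7,7,3,3,7,3,6,3,3,3,6,4,1,1,5], 13, [([], 62, [4]), ([15,12,12,12], 27, [6,4,7,7,3,3,7,3,6,3,3,3,6,4])], []⟩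
def c78 : Clm := ⟨3, 5, true, [6,4,7,7,3,3,7,3,6,3,3,3,6,4,5], [4,1,1,5], 5, [([], 77, [])], []⟩
def c79 : Clm := ⟨5, 3, true, [6,5], [7,3,6,3,7,4,6,3,6,4,7,3,6,1,5], 13, [([], 62, [6]), ([14,12,12,12], 34, [4,6,3,6,4,7,3,6,3,7,4,6,3])], []⟩
def c80 : Clm := ⟨3, 5, true, [7,3,6,3,7,4,6,3,6,4,7,3,6,2,5], [6,1,1,5], 5, [([], 79, [])], []⟩
def c81 : Clm := ⟨5, 5, false, [6,1,1,5], [3,7,3,6,3,3,7,4,7,7,4,1,5,7], 3, [([], 80, []), ([], 66, [3,3,6,6,3,6,4,4,7,7,3])], []⟩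
def c82 : Clm := ⟨5, 5, true, [3,7,4,6,4,7,4,6,3,7,2,5], [4,6,3,6,6,3,3,6,3,3,6,1,5], 13, [([], 66, [6,4,4,6,4,4,7,3,6,4]), ([60,82], 67, [7,3,6,3,3,6,6,3,6,6,3])], []⟩
def c83 : Clm := ⟨5, 5, true, [4,6,3,6,6,3,3,6,3,3,6,2,5], [3,7,4,6,4,7,4,6,3,7,1,5], 5, [([], 82, [])], []⟩
def c84 : Clm := ⟨5, 5, true, [3,6,4,7,3,3,3,7,4,6,3,7,4,4,1,5,3,5,4], [5,4,5], 13, [([], 74, [7,4,6,3,3,3,7,4,7,3,6,6,3,3]), ([34,119,44,36], 75, [4])], []⟩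
def c85 : Clm := ⟨1, 6, true, [5,4,5,4,5], [], 1, [], []⟩
def c86 : Clm := ⟨6, 1, true, [1,1], [1,1,5,4,5,4,5], 5, [([], 85, [])], []⟩
def c87 : Clm := ⟨1, 6, true, [5,4,5,4,5], [], 5, [([], 86, [])], []⟩
def c88 : Clm := ⟨6, 6, false, [], [3,7,4,4,6,4,7,4,6,3,7,4], 3, [([], 85, []), ([12,14,12,14,13,13,14,14,13], 85, [3,7,4,4,6,4,7,4,6,3,7,4])], []⟩
def c89 : Clm := ⟨6, 6, false, [], [4,7,4,6,4,4,6,3,3,7,4,6,3], 3, [([], 85, []), ([14,14,13,14,13,15,15,13,15], 85, [4,7,4,6,4,4,6,3,3,7,4,6,3])], []⟩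
def c90 : Clm := ⟨6, 6, false, [], [3,3,7,4,6,4,7,3,6,6,3,3,7,4], 3, [([], 85, []), ([14,13,13,13,15,15,13,15,13,15], 85, [3,3,7,4,6,4,7,3,6,6,3,3,7,4])], []⟩
def c91 : Clm := ⟨6, 6, true, [1], [6,6,3,3,7,7,3,3,3,6,1,1], 9, [([], 87, []), ([15,15,13,14,12,12], 86, [6,6,3,3,7,7,3,3,3,6])], []⟩
def c92 : Clm := ⟨6, 6, true, [6,6,3,3,7,7,3,3,3,6], [2], 5, [([], 91, [])], []⟩
def c93 : Clm := ⟨6, 6, true, [2], [6,3,7,3,6,6,3,6,4,7,4,6,6,1], 7, [([], 87, []), ([12,12,14,13,14,12], 86, [6,3,7,3,6,6,3,6,4,7,4,6,6])], []⟩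
def c94 : Clm := ⟨6, 3, true, [5], [6,6,3,6,6,3,7,7,4,6,6,6,1,5,4,4,5], 13, [([], 87, []), ([15,15,15,13,14], 43, [4,4,6,3,3,6,4,4,6,3,6,6])], [109]⟩
def c95 : Clm := ⟨3, 6, true, [6,6,3,6,6,3,7,7,4,6,6,6,2,5,4,4,5], [1,1,5], 5, [([], 94, [])], []⟩
def c96 : Clm := ⟨6, 3, true, [5], [6,6,3,6,6,3,7,7,4,6,6,6,1,5,4,4,5], 5, [([], 95, [])], []⟩
def c97 : Clm := ⟨6, 5, true, [3,5], [3,3,3,6,6,3,3,6,4,7,4,1,1,5], 13, [([], 87, [3]), ([15,15], 61, [3,3,3,6,6,3,3,6,4,7,4])], []⟩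
def c98 : Clm := ⟨5, 6, true, [3,3,3,6,6,3,3,6,4,7,4,5], [3,1,1,5], 5, [([], 97, [])], []⟩
def c99 : Clm := ⟨6, 5, true, [3,5], [3,3,3,6,6,3,3,6,4,7,4,1,1,5], 5, [([], 98, [])], []⟩
def c100 : Clm := ⟨6, 6, true, [7,4,4,6,6,3,3,7,3,6,6,3,6,1,5,4,5,7,5], [3,7,3,6,4,4,7,4,4,7,3,6,1,5], 7, [([], 95, [4,7,7,3,3,6,3,7,3,3]), ([61,58,58,60,58], 96, [3,7,3,6,4,4,7,4,4,7,3,6])], []⟩
def c101 : Clm := ⟨6, 6, true, [3,6,6,3,3,6,6,3,7,4,6,1,1,5,6,5,6,3,6], [5,4,5], 13, [([], 95, [3,7,3,6,3,3,7,4,7,7]), ([61,62,82], 96, [4])], []⟩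
def c102 : Clm := ⟨6, 6, false, [5,6], [3,7,4,7,3,6,4,7,4,6,6,3,6,5,4,5,4,5], 12, [([], 94, [6]), ([58,63,58], 48, [3,3,3,7,4,6,3,3,7,4,4,7,7]), ([109,61,63,82], 95, [7,3,6,3,3,3,6,3,6,6,4,4,6,4])], []⟩
def c103 : Clm := ⟨6, 6, true, [3,7,4,7,7,4,6,3,6,4,4,1,5,4,5,3], [3,6,4,7,4,7,7,4,5,3,6,5], 13, [([], 95, [7,3,6,3,3,6,4,7,4,6,6,3]), ([62,82,60,60], 96, [3,6,4,7,4,7])], []⟩
def c104 : Clm := ⟨5, 6, true, [3,3,7,4,4,6,3,7,3,3,6,3,3,6,2,5], [4,6,3,7,4,6,6,5,7,7,4,5], 13, [([], 66, [3,3,6,4,7,3,3,6,6,3,6,4,7,7]), ([61], 96, [4,6,3,7,4,4])], []⟩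
def c105 : Clm := ⟨6, 5, true, [4,6,3,7,4,6,6,1,1,5,7,7,4,5], [3,3,7,4,4,6,3,7,3,3,6,3,3,6,1,5], 5, [([], 104, [])], []⟩
def c106 : Clm := ⟨5, 6, true, [3,3,7,4,4,6,3,7,3,3,6,3,3,6,2,5], [4,6,3,7,4,6,6,5,7,7,4,5], 5, [([], 105, [])], []⟩
def c107 : Clm := ⟨2, 7, true, [4,5,2], [], 1, [], []⟩
def c108 : Clm := ⟨7, 2, true, [1,1], [4,2,5], 5, [([], 107, [])], []⟩
def c109 : Clm := ⟨2, 7, true, [4,1,5], [], 5, [([], 108, [])], []⟩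
def c110 : Clm := ⟨7, 7, false, [], [4,6,3,7,4,6,3,3,6,3], 3, [([], 107, []), ([34,34,39,39], 107, [4,6,3,7,4,6,3,3,6,3])], []⟩
def c111 : Clm := ⟨7, 7, false, [], [6,3,6,6,6,4,4,7,3,3,7,7], 3, [([], 107, []), ([37,119,39,119,34,37], 107, [6,3,6,6,6,4,4,7,3,3,7,7])], []⟩
def c112 : Clm := ⟨7, 7, false, [], [6,6,3,6,6,6,3,3,7,3,6,4,7], 3, [([], 107, []), ([37,37,45,51,118,44,35], 107, [6,6,3,6,6,6,3,3,7,3,6,4,7])], []⟩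
def c113 : Clm := ⟨7, 5, true, [1], [3,7,7,3,3,7,3,6,3,3,3,6,3,5], 9, [([], 109, []), ([44,35,37], 75, [3,7,7,3,3,7,3,6,3,3,3,6,3])], []⟩
def c114 : Clm := ⟨5, 7, true, [3,7,7,3,3,7,3,6,3,3,3,6,3,1,1,5], [2], 5, [([], 113, [])], []⟩
def c115 : Clm := ⟨7, 5, true, [1], [3,7,7,3,3,7,3,6,3,3,3,6,3,5], 5, [([], 114, [])], []⟩
def c116 : Clm := ⟨7, 5, true, [], [3,7,7,3,3,7,3,6,3,3,3,6,3,2,5], 11, [([], 109, []), ([35,37], 75, [3,7,7,3,3,7,3,6,3,3,3,6,3])], []⟩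
def c117 : Clm := ⟨5, 7, true, [3,7,7,3,3,7,3,6,3,3,3,6,3,1,5], [1,1], 5, [([], 116, [])], []⟩
def c118 : Clm := ⟨7, 5, true, [], [3,7,7,3,3,7,3,6,3,3,3,6,3,2,5], 5, [([], 117, [])], []⟩
def c119 : Clm := ⟨7, 7, true, [2], [1], 7, [([], 109, []), ([44], 108, [])], []⟩
def c120 : Clm := ⟨7, 7, true, [2], [1], 5, [([], 119, [])], []⟩
def c121 : Clm := ⟨7, 3, true, [5], [4,2,5], 13, [([], 109, []), ([], 38, [7])], []⟩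
def c122 : Clm := ⟨3, 7, true, [4,1,5], [1,1,5], 5, [([], 121, [])], []⟩
def c123 : Clm := ⟨7, 3, true, [5], [4,2,5], 5, [([], 122, [])], []⟩
def c124 : Clm := ⟨7, 7, true, [3,5], [7,4,6,6,6,4,4,6,4,7,3,3,1,1,5], 13, [([], 109, [3]), ([50,44,36,34], 108, [7,4,6,6,6,4,4,6,4,7,3,3])], []⟩
def c125 : Clm := ⟨7, 7, true, [4,5], [4,7,3,3,3,6,3,3,7,4,7,3,6,3,3,1,1,5], 13, [([], 109, [4]), ([50,36], 108, [4,7,3,3,3,6,3,3,7,4,7,3,6,3,3])], []⟩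
def c126 : Clm := ⟨7, 7, true, [4,7,3,3,3,6,3,3,7,4,7,3,6,3,3,5], [4,1,1,5], 5, [([], 125, [])], []⟩
def c127 : Clm := ⟨7, 5, true, [7,5], [4,4,7,3,3,3,6,6,6,3,3,5,4,5], 13, [([], 109, [7]), ([35,38,118,34], 75, [4,4,7,3,3,3,6,6,6,3])], []⟩
def c128 : Clm := ⟨5, 7, true, [4,4,7,3,3,3,6,6,6,3,3,1,1,5,4,5], [7,1,1,5], 5, [([], 127, [])], []⟩
def c129 : Clm := ⟨7, 5, true, [7,5], [4,4,7,3,3,3,6,6,6,3,3,5,4,5], 5, [([], 128, [])], []⟩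
def c130 : Clm := ⟨7, 5, true, [4,4,6,3,7,4,4,5], [7,4,6,3,7,7,4,6,3,7,3,6,3,2,5,4,5,7,7,4], 13, [([], 109, [4,4,6,3,7,4,4]), ([50,44,35,37], 75, [3,6,6,6,3,6,4,4,7,3,3])], []⟩
def c131 : Clm := ⟨5, 7, true, [7,4,6,3,7,7,4,6,3,7,3,6,3,1,5,4,5,7,7,4], [4,4,6,3,7,4,4,1,1,5], 5, [([], 130, [])], []⟩
def c132 : Clm := ⟨7, 7, false, [4,4,6,3,7,4,4,1,1,5], [7,3,6,3,3,6,6,3,3,3,7,3,5,3,5,4,5], 3, [([], 131, []), ([162,127,127], 114, [3,6,3,7,3,6,4,4,7,3,3])], []⟩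
def c133 : Clm := ⟨3, 7, true, [4,6,6,6,3,7,4,4,7,2,5,3,5,4], [1,5], 13, [([], 70, [3,7,7,3,3,7,3,6,3,3,3,6,3]), ([], 115, [])], []⟩
def c134 : Clm := ⟨7, 3, true, [2,5], [4,6,6,6,3,7,4,4,7,1,5,3,5,4], 5, [([], 133, [])], []⟩
def c135 : Clm := ⟨3, 7, true, [4,6,6,6,3,7,4,4,7,2,5,3,5,4], [1,5], 5, [([], 134, [])], []⟩
def c136 : Clm := ⟨7, 7, true, [3,3,3,7,4,4,7,3,6,3,7,4,7,5,7,5,4], [3,3,6,3,3,6,4,7,4,4,6,4,1,5], 13, [([], 128, [4,7,4,4,7,7,4,6,6,3,3,7,3,3]), ([126], 115, [6,3,3,3,7,4,7,7,4,6,3,6])], []⟩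
def c137 : Clm := ⟨7, 7, true, [3,7,7,3,3,3,6,6,1,1,5], [4,6,3,3,6,6,6,4,4,7,3,3,1,5], 13, [([], 117, [3,7,7,3,3,3,6,6]), ([162,127], 115, [7,3,6,6,3,3,3,7,7,4,6,6])], []⟩
def c138 : Clm := ⟨7, 7, true, [4,6,3,3,6,6,6,4,4,7,3,3,2,5], [3,7,7,3,3,3,6,6,5], 5, [([], 137, [])], []⟩
def c139 : Clm := ⟨6, 7, true, [4,6,3,3,6,4,4,7,4,6,1,5,3,6], [6,3,6,6,6,4,7,4,1,5], 13, [([], 106, [6,4,4,7,3,6,4,7,7,4,7,3]), ([162], 115, [3,6,3,3,3,7,4,7])], []⟩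
def c140 : Clm := ⟨7, 6, true, [6,3,6,6,6,4,7,4,2,5], [4,6,3,3,6,4,4,7,4,6,2,5,3,6], 5, [([], 139, [])], []⟩
def c141 : Clm := ⟨5, 7, true, [7,3,6,3,7,4,6,4,4,6,6,6,4,7,1,5], [4,6,6,4,4,7,3,6,4,7,7,4,7,5], 13, [([], 72, [4,6,3,6,4,4,6,4,7,3,3,3,7,4]), ([126], 118, [4,6,6,4,4,7,3,6,4,7,7,4,7])], []⟩
def c142 : Clm := ⟨7, 5, true, [4,6,6,4,4,7,3,6,4,7,7,4,7,1,1,5], [7,3,6,3,7,4,6,4,4,6,6,6,4,7,2,5], 5, [([], 141, [])], []⟩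
def c143 : Clm := ⟨6, 7, true, [4,4,7,3,6,4,7,4,6,4,4,7,3,6,5,7,5,4], [4,5], 13, [([], 98, [3,3,6,3,3,3,6,4,7,4,4,7,7,3,6]), ([162,127,127], 118, [4])], []⟩
def c144 : Clm := ⟨7, 6, true, [4,1,1,5], [4,4,7,3,6,4,7,4,6,4,4,7,3,6,1,1,5,7,5,4], 5, [([], 143, [])], []⟩
def c145 : Clm := ⟨6, 7, true, [4,4,7,3,6,4,7,4,6,4,4,7,3,6,5,7,5,4], [4,5], 5, [([], 144, [])], []⟩
def c146 : Clm := ⟨7, 7, true, [6,4,7,4,4,6,6,3,3,6,6,1,5,4], [4,7,4,7,3,6,4,7,3,6,6,3,2,5], 11, [([], 135, [3,7,4,7,7,3,3,6,6,3]), ([60,82,62,58], 123, [4,7,4,7,3,6,4,7,3,6,6,3])], []⟩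
def c147 : Clm := ⟨5, 7, true, [4,7,3,6,3,3,7,7,3,6,3,7,5,7,5,4], [3,7,4,6,3,7,4,6,5,4,5], 13, [([], 78, [3,7,4,7,7,4,6,3,3,7,3]), ([82,60], 123, [6,4,7,3,6,4,7])], []⟩
def c148 : Clm := ⟨7, 5, true, [3,7,4,6,3,7,4,6,1,1,5,4,5], [4,7,3,6,3,3,7,7,3,6,3,7,1,1,5,7,5,4], 5, [([], 147, [])], []⟩
def c149 : Clm := ⟨5, 7, true, [4,7,3,6,3,3,7,7,3,6,3,7,5,7,5,4], [3,7,4,6,3,7,4,6,5,4,5], 5, [([], 148, [])], []⟩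
def c150 : Clm := ⟨6, 7, true, [7,3,3,6,6,3,7,4,6,4,4,7,1,1,5,4,5], [5,7,5], 13, [([], 95, [3,3,3,6,4,7,4,6,4,4,7,3]), ([61,62,59], 123, [7])], []⟩
def c151 : Clm := ⟨7, 6, true, [1,1,5,7,5], [7,3,3,6,6,3,7,4,6,4,4,7,5,4,5], 5, [([], 150, [])], []⟩
def c152 : Clm := ⟨3, 7, true, [4,2,5,3,6,5], [3,3,7,7,4,7,7,3,3,6,6,1,1,5,3,5,6], 13, [([], 123, [3,6]), ([225,264], 126, [4,7,3,6,3,3,7,4,7,3,6,4,7])], []⟩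
def c153 : Clm := ⟨7, 3, true, [3,3,7,7,4,7,7,3,3,6,6,5,3,5,6], [4,1,5,3,6,5], 5, [([], 152, [])], []⟩
def c154 : Clm := ⟨7, 6, true, [4,7,3,3,3,6,3,3,7,4,7,3,6,3,3,1,1,5,3,6,5], [7,7,3,3,6,3,3,6,4,4,7,7,4,1,5,3,6], 13, [([223], 126, [6,3,6,6,6,3,6,6,3,7,7,3,6,3]), ([264,223], 145, [3,7,7,3,3,3,7,3,3,7,4,4,7,7])], []⟩
def c155 : Clm := ⟨6, 7, true, [7,7,3,3,6,3,3,6,4,4,7,7,4,2,5,3,6], [4,7,3,3,3,6,3,3,7,4,7,3,6,3,3,5,3,6,5], 5, [([], 154, [])], []⟩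
def c156 : Clm := ⟨7, 7, true, [7,4,6,3,3,7,4,6,3,6,4,7,7,5,7,5,7,5,7,4], [3,6,6,4,4,6,4,4,7,3,6,5,7,5], 13, [([], 149, [4,4,6,4,4,6,4,7,7,3,6]), ([127,162,128,127], 129, [6,3,6,6,4,4,6,4,4,7,3])], []⟩
def c157 : Clm := ⟨7, 7, true, [3,6,6,4,4,6,4,4,7,3,6,1,1,5,7,5], [4,6,6,3,7,4,6,4,7,4,6,3,7,3,5,6,6,5,6,4,5], 5, [([], 156, [])], []⟩
def c158 : Clm := ⟨7, 7, true, [6,3,7,7,4,4,7,7,4,4,6,3,6,1,5,4,5,7,7,4], [3,7,4,6,3,6,6,4,5,3,6,5], 13, [([], 128, [4,7,7,3,3,7,3,6,4,7,7,4,6]), ([127,162,128,152], 129, [3,3,7,4,6,3,7,4,7])], []⟩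
def c159 : Clm := ⟨7, 7, true, [3,7,4,6,3,6,6,4,1,1,5,3,6,5], [6,3,7,7,4,4,7,7,4,4,6,3,6,2,5,4,5,7,7,4], 5, [([], 158, [])], []⟩
def c160 : Clm := ⟨6, 7, true, [3,6,3,7,4,6,4,4,6,3,3,6,3,3,5,3,5,6,6,4,4,5], [7,4,4,6,3,7,4,4,7,4,5,3,6,5], 13, [([], 106, [4,6,3,6,4,7,4,6,3,6,6,3]), ([128,126,126], 129, [4,4,6,3,7,4,4])], []⟩
def c161 : Clm := ⟨7, 6, true, [7,4,4,6,3,7,4,4,7,4,1,1,5,3,6,5], [3,6,4,7,7,4,6,3,6,6,3,3,5,3,3,3,5,7,3,3,5], 5, [([], 160, [])], []⟩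
def c162 : Clm := ⟨7, 7, true, [1,5,4,5], [4,6,4,7,4,6,6,6,5,3,3,3,5,3,5], 13, [([], 135, [4]), ([59,63,59,82,58], 153, [4,4,7,3,6,6,3,7,7,4,7,3,3])], []⟩
def c163 : Clm := ⟨7, 7, true, [4,7,4,4,6,6,4,7,5,3,5,3,5,4,4], [2,5,4,5], 5, [([], 162, [])], []⟩
def c164 : Clm := ⟨5, 8, true, [5,7,5,1], [], 1, [], []⟩
def c165 : Clm := ⟨8, 5, true, [1,1], [2,5,4,5], 5, [([], 164, [])], []⟩
def c166 : Clm := ⟨5, 8, true, [1,5,4,5], [], 5, [([], 165, [])], []⟩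
def c167 : Clm := ⟨8, 8, false, [], [3,6,3,6,4,7,4,6,4,7,3,3], 3, [([], 164, []), ([127,163,126,153,162,128], 164, [3,6,3,6,4,7,4,6,4,7,3,3])], []⟩
def c168 : Clm := ⟨8, 8, false, [], [3,6,4,7,3,6,4,7], 3, [([], 164, []), ([127,129,126,153,129,126,152,128], 164, [3,6,4,7,3,6,4,7])], []⟩
def c169 : Clm := ⟨8, 7, true, [1], [3,7,4,6,3,6,4,7,3,6,4,1,1,5,4,5,7,5], 9, [([], 166, []), ([126,128,127,128], 129, [6,3,3,7,4,6,3,7,4,4])], []⟩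
def c170 : Clm := ⟨7, 8, true, [3,7,4,6,3,6,4,7,3,6,4,5,4,5,7,5], [2], 5, [([], 169, [])], []⟩
def c171 : Clm := ⟨8, 7, true, [], [3,3,6,4,7,4,6,4,7,3,3,2,5], 11, [([], 166, []), ([128,126,128,126], 129, [3,6,6,6,4,4,6,4,4,7,3,6])], []⟩
def c172 : Clm := ⟨7, 8, true, [3,3,6,4,7,4,6,4,7,3,3,1,5], [1,1], 5, [([], 171, [])], []⟩
def c173 : Clm := ⟨8, 8, true, [2], [4,7,4,4,7,7,4,6,6,3,3,7,3,3,1], 7, [([], 166, []), ([126,126,128,126], 165, [4,7,4,4,7,7,4,6,6,3,3,7,3,3])], []⟩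
def c174 : Clm := ⟨8, 5, true, [5], [3,7,7,4,4,7,4,7,3,2,5,4,5], 13, [([], 166, []), ([127,127,128], 83, [3,6,4,4,6,6,3,7,7])], []⟩
def c175 : Clm := ⟨5, 8, true, [3,7,7,4,4,7,4,7,3,1,5,4,5], [1,1,5], 5, [([], 174, [])], []⟩
def c176 : Clm := ⟨8, 8, false, [1,1,5], [1,1,5], 3, [([], 175, []), ([127,128,127], 164, [])], []⟩
def c177 : Clm := ⟨8, 6, true, [3,5], [3,7,4,6,4,7,4,7,7,3,3,6,4,4,2,5,4,5,3], 13, [([], 166, [3]), ([126,152,126,152], 99, [7,3,3,3,7,4,6,3,7,7,4,6])], []⟩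
def c178 : Clm := ⟨6, 8, true, [3,7,4,6,4,7,4,7,7,3,3,6,4,4,1,5,4,5,3], [3,1,1,5], 5, [([], 177, [])], []⟩
def c179 : Clm := ⟨8, 7, true, [4,5], [7,3,6,4,7,3,6,6,3,7,4,6,5,6,5,6,3,6], 13, [([], 166, [4]), ([126,152,162,127], 129, [3,7,3,6,3,6,6,6,3,7,4,7,7])], []⟩
def c180 : Clm := ⟨7, 8, true, [7,3,6,4,7,3,6,6,3,7,4,6,1,1,5,6,5,6,3,6], [4,1,1,5], 5, [([], 179, [])], []⟩
def c181 : Clm := ⟨8, 8, false, [4,1,1,5], [3,6,3,3,7,3,6,4,7,7,4,6,6,5,4,5,3], 3, [([], 180, []), ([222,225,223,224], 180, [6,3,7,4,4,7,3,3,7,7,4,7,7])], []⟩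
def c182 : Clm := ⟨8, 7, true, [6,5], [6,3,3,6,4,7,4,4,7,7,3,6,6,3,5,3,3,5,7], 13, [([], 166, [6]), ([152,126,126], 142, [6,3,3,7,4,6,3,6,6,6,3,6,4])], []⟩
def c183 : Clm := ⟨7, 8, true, [6,3,3,6,4,7,4,4,7,7,3,6,6,3,1,1,5,3,3,5,7], [6,1,1,5], 5, [([], 182, [])], []⟩
def c184 : Clm := ⟨8, 8, false, [6,1,1,5], [3,3,6,3,6,6,3,3,6,6,3,3,3,5,6,6,6,5,7], 3, [([], 183, []), ([225,220,222], 180, [4,7,4,7,7,3,6,6,3,3,3])], []⟩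
def c185 : Clm := ⟨8, 8, true, [3,3,3,5], [3,6,4,7,3,3,6,4,7,3,3,6,3,1,1,5], 13, [([], 166, [3,3,3]), ([162,152,128,127,127], 165, [3,6,4,7,3,3,6,4,7,3,3,6,3])], []⟩
def c186 : Clm := ⟨7, 9, true, [3,5,2], [], 1, [], []⟩
def c187 : Clm := ⟨9, 7, true, [1,1], [3,2,5], 5, [([], 186, [])], []⟩
def c188 : Clm := ⟨7, 9, true, [3,1,5], [], 5, [([], 187, [])], []⟩
def c189 : Clm := ⟨9, 9, false, [], [3,6,4,7,4,6,6,3,6,6,3,7,7,3], 3, [([], 186, []), ([225,221], 186, [3,6,4,7,4,6,6,3,6,6,3,7,7,3])], []⟩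
def c190 : Clm := ⟨9, 9, false, [], [7,4,6,6,4], 3, [([], 186, []), ([221,223], 186, [7,4,6,6,4])], []⟩
def c191 : Clm := ⟨9, 7, true, [1], [4,7,4,6,3,3,6,6,4,4,7,2,5], 9, [([], 188, []), ([224], 138, [3,3,7,4,6,4,7,4,6,3,6,6,4])], []⟩
def c192 : Clm := ⟨7, 9, true, [4,7,4,6,3,3,6,6,4,4,7,1,5], [2], 5, [([], 191, [])], []⟩
def c193 : Clm := ⟨9, 9, false, [2], [3,6,4,7,4,6,6,3,6,6,3,7,7,3,1], 3, [([], 192, []), ([222], 186, [3,6,4,7,4,6,6,3,6,6,3,7,7,3])], []⟩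
def c194 : Clm := ⟨9, 7, true, [5], [3,2,5], 13, [([], 188, []), ([], 120, [6])], []⟩
def c195 : Clm := ⟨7, 9, true, [3,1,5], [1,1,5], 5, [([], 194, [])], []⟩
def c196 : Clm := ⟨9, 9, false, [1,1,5], [1,1,5], 3, [([], 195, []), ([], 186, [])], []⟩
def c197 : Clm := ⟨9, 7, true, [3,5], [6,4,7,4,6,3,3,6,3,3,6,6,4,2,5,4,5,3,6], 13, [([], 188, [3]), ([223,220,220], 163, [6,3,3,7,4,6,3,6,6,6,3,3])], []⟩
def c198 : Clm := ⟨7, 9, true, [6,4,7,4,6,3,3,6,3,3,6,6,4,1,5,4,5,3,6], [3,1,1,5], 5, [([], 197, [])], []⟩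
def c199 : Clm := ⟨9, 9, false, [3,1,1,5], [3,7,7,4,6,3,3,7,3,6,3,6,6,4,1,1,5,4], 3, [([], 198, []), ([264], 186, [3,7,7,4,6,3,3,7,3,6,3,6,6,4])], []⟩
def c200 : Clm := ⟨9, 9, true, [3,6,3,3,5], [7,4,6,6,6,3,3,1,1,5], 13, [([], 188, [3,6,3,3]), ([264,220], 187, [7,4,6,6,6,3,3])], []⟩
def c201 : Clm := ⟨1, 3, true, [5,4,5], [3,6,3,6,4,7,3,3,7,1,1,5,3,5,4,5], 4, [([], 42, [])], [109]⟩
def c202 : Clm := ⟨3, 3, true, [7,2,5], [3,6,3,6,4,7,3,3,7,5,3,5,4], 4, [([], 48, [])], [109]⟩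
def c203 : Clm := ⟨3, 3, true, [7,3,6,3,7,4,6,3,6,4,7,3,6,5], [3,6,3,6,4,7,3,3,7,3,5,4,5,3], 4, [([], 50, [])], [109]⟩

noncomputable def cl0 (y : ℕ) : Clm := (selA 8 y (selA 4 y (selA 2 y (selA 1 y c0 c1) (selA 3 y c2 c3)) (selA 6 y (selA 5 y c4 c5) (selA 7 y c6 c7))) (selA 12 y (selA 10 y (selA 9 y c8 c9) (selA 11 y c10 c11)) (selA 14 y (selA 13 y c12 c13) (selA 15 y c14 c15))))

noncomputable def cl1 (y : ℕ) : Clm := (selA 24 y (selA 20 y (selA 18 y (selA 17 y c16 c17) (selA 19 y c18 c19)) (selA 22 y (selA 21 y c20 c21) (selA 23 y c22 c23))) (selA 28 y (selA 26 y (selA 25 y c24 c25) (selA 27 y c26 c27)) (selA 30 y (selA 29 y c28 c29) (selA 31 y c30 c31))))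

noncomputable def cl2 (y : ℕ) : Clm := (selA 40 y (selA 36 y (selA 34 y (selA 33 y c32 c33) (selA 35 y c34 c35)) (selA 38 y (selA 37 y c36 c37) (selA 39 y c38 c39))) (selA 44 y (selA 42 y (selA 41 y c40 c41) (selA 43 y c42 c43)) (selA 46 y (selA 45 y c44 c45) (selA 47 y c46 c47))))

noncomputable def cl3 (y : ℕ) : Clm := (selA 56 y (selA 52 y (selA 50 y (selA 49 y c48 c49) (selA 51 y c50 c51)) (selA 54 y (selA 53 y c52 c53) (selA 55 y c54 c55))) (selA 60 y (selA 58 y (selA 57 y c56 c57) (selA 59 y c58 c59)) (selA 62 y (selA 61 y c60 c61) (selA 63 y c62 c63))))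

noncomputable def cl4 (y : ℕ) : Clm := (selA 72 y (selA 68 y (selA 66 y (selA 65 y c64 c65) (selA 67 y c66 c67)) (selA 70 y (selA 69 y c68 c69) (selA 71 y c70 c71))) (selA 76 y (selA 74 y (selA 73 y c72 c73) (selA 75 y c74 c75)) (selA 78 y (selA 77 y c76 c77) (selA 79 y c78 c79))))

noncomputable def cl5 (y : ℕ) : Clm := (selA 88 y (selA 84 y (selA 82 y (selA 81 y c80 c81) (selA 83 y c82 c83)) (selA 86 y (selA 85 y c84 c85) (selA 87 y c86 c87))) (selA 92 y (selA 90 y (selA 89 y c88 c89) (selA 91 y c90 c91)) (selA 94 y (selA 93 y c92 c93) (selA 95 y c94 c95))))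

noncomputable def cl6 (y : ℕ) : Clm := (selA 104 y (selA 100 y (selA 98 y (selA 97 y c96 c97) (selA 99 y c98 c99)) (selA 102 y (selA 101 y c100 c101) (selA 103 y c102 c103))) (selA 108 y (selA 106 y (selA 105 y c104 c105) (selA 107 y c106 c107)) (selA 110 y (selA 109 y c108 c109) (selA 111 y c110 c111))))

noncomputable def cl7 (y : ℕ) : Clm := (selA 120 y (selA 116 y (selA 114 y (selA 113 y c112 c113) (selA 115 y c114 c115)) (selA 118 y (selA 117 y c116 c117) (selA 119 y c118 c119))) (selA 124 y (selA 122 y (selA 121 y c120 c121) (selA 123 y c122 c123)) (selA 126 y (selA 125 y c124 c125) (selA 127 y c126 c127))))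

noncomputable def cl8 (y : ℕ) : Clm := (selA 136 y (selA 132 y (selA 130 y (selA 129 y c128 c129) (selA 131 y c130 c131)) (selA 134 y (selA 133 y c132 c133) (selA 135 y c134 c135))) (selA 140 y (selA 138 y (selA 137 y c136 c137) (selA 139 y c138 c139)) (selA 142 y (selA 141 y c140 c141) (selA 143 y c142 c143))))

noncomputable def cl9 (y : ℕ) : Clm := (selA 152 y (selA 148 y (selA 146 y (selA 145 y c144 c145) (selA 147 y c146 c147)) (selA 150 y (selA 149 y c148 c149) (selA 151 y c150 c151))) (selA 156 y (selA 154 y (selA 153 y c152 c153) (selA 155 y c154 c155)) (selA 158 y (selA 157 y c156 c157) (selA 159 y c158 c159))))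

noncomputable def cl10 (y : ℕ) : Clm := (selA 168 y (selA 164 y (selA 162 y (selA 161 y c160 c161) (selA 163 y c162 c163)) (selA 166 y (selA 165 y c164 c165) (selA 167 y c166 c167))) (selA 172 y (selA 170 y (selA 169 y c168 c169) (selA 171 y c170 c171)) (selA 174 y (selA 173 y c172 c173) (selA 175 y c174 c175))))

noncomputable def cl11 (y : ℕ) : Clm := (selA 184 y (selA 180 y (selA 178 y (selA 177 y c176 c177) (selA 179 y c178 c179)) (selA 182 y (selA 181 y c180 c181) (selA 183 y c182 c183))) (selA 188 y (selA 186 y (selA 185 y c184 c185) (selA 187 y c186 c187)) (selA 190 y (selA 189 y c188 c189) (selA 191 y c190 c191))))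

noncomputable def cl12 (y : ℕ) : Clm := (selA 198 y (selA 195 y (selA 193 y c192 (selA 194 y c193 c194)) (selA 196 y c195 (selA 197 y c196 c197))) (selA 201 y (selA 199 y c198 (selA 200 y c199 c200)) (selA 202 y c201 (selA 203 y c202 c203))))

noncomputable def cl (y : ℕ) : Clm := (selA 96 y (selA 48 y (selA 16 y (cl0 y) (selA 32 y (cl1 y) (cl2 y))) (selA 64 y (cl3 y) (selA 80 y (cl4 y) (cl5 y)))) (selA 144 y (selA 112 y (cl6 y) (selA 128 y (cl7 y) (cl8 y))) (selA 176 y (selA 160 y (cl9 y) (cl10 y)) (selA 192 y (cl11 y) (cl12 y)))))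

def gwL : List (List ℕ) := [[], [8], [8,5,2,8], [8,5,1,8], [8,5,4,5,8], [8,5,4,5,2,8], [8,5,4,5,4,5,8], [8,5,2,8,4,5,2,8], [8,5,4,5,2,8,5,7,5,1,8], [8,5,2,8,4,5,2,8,3,5,2,8]]

noncomputable def D : Dce where
  inv := 37945386881020122432000
  m := 8
  T := 8
  TI := 9
  KL := [3,4,6,7]
  ax := [[1], [3], [5]]
  sg := [[], [], [], [3], [4], [], [6], [7]]
  chk := fixB H.img 8 H.bs
  pats := [([], false), ([9,8], false), ([8], true), ([1,1,9,2,2], true), ([8,1,8,8,2], false), ([1,9,9,2], true), ([8,8,2,8,1], false), ([2,9,1,9], true), ([8,2,8,1,8], false), ([9,2,9,1], true), ([8,5,8,5,8,5], false), ([5,9,5,9,5], true), ([8,8,8,8,8], false), ([9,9,9,9], true)]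
  gw := nthW gwL
  cl := cl


end Cfsg.H6.HN.D2
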